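import Groth.Prelude.Def_ProjUP
import Groth.Agent.Lib.GradedAlg.ProjClosed
import Groth.Agent.Lib.Hyperplane.ZeroScheme
import Groth.Agent.Lib.VA.UnitGen
import Mathlib.RingTheory.MvPolynomial.Ideal

/-!
# A closed subscheme of `Proj` is cut out by the forms vanishing on it
-/

set_option autoImplicit false
set_option linter.all false
set_option backward.isDefEq.respectTransparency false

universe u

open AlgebraicGeometry CategoryTheory CategoryTheory.Limits TopologicalSpace Opposite HomogeneousIdeal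
open DirectSum HomogeneousLocalization
open GrothLib.InvExt (mres IsGen)
open GrothLib.Ample.ProjTwist
open GrothLib.GradedAlg (dPlus frac chartIdeal awayToSection_bijective)

noncomputable section

namespace GrothLib.SatProj10

variable {R A B : Type u} [CommRing R] [CommRing A] [Algebra R A] [CommRing B] [Algebra R B]
  {𝒜 : ℕ → Submodule R A} {ℬ : ℕ → Submodule R B} [GradedAlgebra 𝒜] [GradedAlgebra ℬ]
  {ι : Type u} (x : ι → A) (hx : ∀ j, x j ∈ 𝒜 1) (hcov : ⨆ j, Proj.basicOpen 𝒜 (x j) = ⊤)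

/-- Restriction of a form to a chart. -/
theorem mres_gsec {t : A} (ht : t ∈ 𝒜 1) {d : ℕ} (F : A) (hF : F ∈ 𝒜 d) :
    mres (Twist.twist 𝒜 (d : ℤ)) (le_top : Proj.basicOpen 𝒜 t ≤ ⊤) (gsec 𝒜 F hF) =
      (show Γ(Proj 𝒜, Proj.basicOpen 𝒜 t) from (Proj.awayToSection 𝒜 t).hom (frac 𝒜 ht d F hF)) •
        mres (Twist.twist 𝒜 (d : ℤ)) le_top (gsec 𝒜 (t ^ d) (pow_mem 𝒜 ht d)) := by
  refine evT_ext fun y => ?_
  rw [evT_smul, evT_mres, evT_mres, evT_gsec, evT_gsec, Hyperplane.ev_awayToSection_frac,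
    ← Localization.mk_one_eq_algebraMap, ← Localization.mk_one_eq_algebraMap, Localization.mk_mul,
    Localization.mk_eq_mk_iff, Localization.r_iff_exists]
  exact ⟨1, by simp only [OneMemClass.coe_one, one_mul, Submonoid.coe_mul, mul_one]; ring⟩

include hx hcov in
/-- A form pulls back to zero iff its fractions lie in the ideal on every chart. -/
theorem pullSec_eq_zero_iff {Z : Scheme.{u}} (i : Z ⟶ Proj 𝒜) [QuasiCompact i] {d : ℕ} (F : A) (hF : F ∈ 𝒜 d) :
    ProjUP.pullSec i (Twist.twist 𝒜 (d : ℤ)) (gsec 𝒜 F hF) = 0 ↔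
      ∀ j, frac 𝒜 (hx j) d F hF ∈ chartIdeal i.ker (x j) (hx j) one_pos := by
  let M := Twist.twist 𝒜 (d : ℤ)
  let M' := (Scheme.Modules.pullback i).obj M
  let η : M ⟶ (Scheme.Modules.pushforward i).obj M' := (Scheme.Modules.pullbackPushforwardAdjunction i).unit.app M
  have hM : PicF.IsInvertible M := InvExt.isInvertible_of_gens fun p => by
    obtain ⟨j, hj⟩ := Opens.mem_iSup.mp (hcov ▸ Opens.mem_top p : p ∈ ⨆ j, Proj.basicOpen 𝒜 (x j))
    exact ⟨_, _, hj, isGen_gsec (hx j) d⟩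
  have key : ∀ j, mres M' (le_top : i ⁻¹ᵁ Proj.basicOpen 𝒜 (x j) ≤ ⊤) (ProjUP.pullSec i M (gsec 𝒜 F hF)) = 0 ↔
      frac 𝒜 (hx j) d F hF ∈ chartIdeal i.ker (x j) (hx j) one_pos := by
    intro j
    let D := Proj.basicOpen 𝒜 (x j)
    let g : Γ(M, D) := mres M le_top (gsec 𝒜 (x j ^ d) (pow_mem 𝒜 (hx j) d))
    let r : Γ(Proj 𝒜, D) := (Proj.awayToSection 𝒜 (x j)).hom (frac 𝒜 (hx j) d F hF)
    have hgen : IsGen M' (i ⁻¹ᵁ D) (show Γ(M', i ⁻¹ᵁ D) from η.app D g) := VA.isGen_unit i hM (isGen_gsec (hx j) d)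
    have he : mres M' (le_top : i ⁻¹ᵁ D ≤ ⊤) (ProjUP.pullSec i M (gsec 𝒜 F hF)) =
        (i.app D).hom r • (show Γ(M', i ⁻¹ᵁ D) from η.app D g) := by
      refine Eq.trans ?_ (Ample.app_smul η r g)
      rw [← mres_gsec (hx j) F hF]
      exact (Ample.app_mres η (le_top : D ≤ ⊤) _).symm
    rw [he]
    refine Iff.trans ⟨fun h => ?_, fun h => ?_⟩
      (show (i.app D).hom r = 0 ↔ frac 𝒜 (hx j) d F hF ∈ chartIdeal i.ker (x j) (hx j) one_pos from ?_)
    · refine hgen.smul_left_injective (le_refl (i ⁻¹ᵁ D)) ?_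
      rw [InvExt.mres_self, h, zero_smul]
    · rw [h, zero_smul]
    · rw [chartIdeal, Ideal.mem_comap, Scheme.Hom.ker_apply]
      exact RingHom.mem_ker.symm
  constructor
  · intro h j
    refine (key j).1 ?_
    rw [h]
    exact map_zero _
  · intro h
    refine Ample.meq_of_cover M' (fun j => i ⁻¹ᵁ Proj.basicOpen 𝒜 (x j)) (fun _ => le_top)
      (fun z _ => ?_) fun j => ((key j).2 (h j)).trans (map_zero _).symm
    obtain ⟨j, hj⟩ := Opens.mem_iSup.mp (hcov ▸ Opens.mem_top (i z) : i z ∈ ⨆ j, Proj.basicOpen 𝒜 (x j))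
    exact Opens.mem_iSup.mpr ⟨j, hj⟩

include hx hcov in
/-- The kernel of `Proj` of a surjection whose kernel is the ideal of vanishing forms. -/
theorem ker_map_eq [Finite ι] {Z : Scheme.{u}} (i : Z ⟶ Proj 𝒜) [QuasiCompact i]
    (φ : 𝒜 →+*ᵍ ℬ) (hφ : ℬ₊ ≤ 𝒜₊.map φ) (hφs : Function.Surjective φ)
    (hker : ∀ (d : ℕ) (F : A) (hF : F ∈ 𝒜 d),
      φ F = 0 ↔ ProjUP.pullSec i (Twist.twist 𝒜 (d : ℤ)) (gsec 𝒜 F hF) = 0) :
    (Proj.map φ hφ).ker = i.ker := by
  classical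
  haveI := Fintype.ofFinite ι
  haveI := GradedAlg.isClosedImmersion_map φ hφ hφs
  let s : Finset A := Finset.univ.image x
  have hs1 : ∀ f ∈ s, f ∈ 𝒜 1 := by
    intro f hf
    obtain ⟨j, -, rfl⟩ := Finset.mem_image.1 hf
    exact hx j
  have hJ : ∀ (d : ℕ) (F : A) (hF : F ∈ 𝒜 d),
      φ F = 0 ↔ F ∈ (GradedAlg.subschemeIdeal i.ker s hs1).toIdeal := by
    intro d F hF
    rw [hker d F hF, pullSec_eq_zero_iff x hx hcov i F hF, GradedAlg.mem_subschemeIdeal i.ker s hs1 hF]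
    refine ⟨fun h f hf => ?_, fun h j => h _ (Finset.mem_image_of_mem x (Finset.mem_univ j))⟩
    obtain ⟨j, -, rfl⟩ := Finset.mem_image.1 hf
    exact h j
  set J := GradedAlg.subschemeIdeal i.ker s hs1
  refine Scheme.IdealSheafData.ext_of_iSup_eq_top (fun j => dPlus 𝒜 (x j) (hx j) one_pos) hcov fun j => ?_
  rw [Scheme.Hom.ker_apply]
  apply Ideal.comap_injective_of_surjective _ (awayToSection_bijective _ (hx j) one_pos).2
  rw [RingHom.comap_ker]
  have h := congrArg CommRingCat.Hom.hom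
    (Proj.awayToSection_comp_appLE φ hφ (i := 1) (s := x j) (hx j))
  rw [CommRingCat.hom_comp, CommRingCat.hom_comp] at h
  rw [Scheme.Hom.app_eq_appLE]
  change RingHom.ker (((Proj.map φ hφ).appLE (Proj.basicOpen 𝒜 (x j))
    (Proj.basicOpen ℬ (φ (x j))) (by rfl)).hom.comp
      (Proj.awayToSection 𝒜 (x j)).hom) = chartIdeal i.ker (x j) (hx j) one_pos
  rw [h, RingHom.ker_comp_of_injective _
    (awayToSection_bijective (φ (x j)) (φ.2 (hx j)) one_pos).1,
    ← GradedAlg.ker_away_map_subscheme i.ker s hs1 (Finset.mem_image_of_mem x (Finset.mem_univ j))]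
  ext z
  obtain ⟨n, a, ha, rfl⟩ := Away.mk_surjective 𝒜 (hx j) z
  have ha' : a ∈ 𝒜 n := by simpa using ha
  have hmem : ∀ k : ℕ, x j ^ k * a ∈ 𝒜 (k + n) := fun k =>
    SetLike.mul_mem_graded (pow_mem 𝒜 (hx j) k) ha'
  rw [RingHom.mem_ker, RingHom.mem_ker, CommRingCat.hom_ofHom, Away.map_mk, Away.map_mk, ← (HomogeneousLocalization.val_injective _).eq_iff,
    ← (HomogeneousLocalization.val_injective _).eq_iff, Away.val_mk, Away.val_mk,
    HomogeneousLocalization.val_zero, HomogeneousLocalization.val_zero, Localization.mk_eq_mk',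
    IsLocalization.mk'_eq_zero_iff, Localization.mk_eq_mk', IsLocalization.mk'_eq_zero_iff]
  constructor
  · rintro ⟨⟨_, k, rfl⟩, hk⟩
    refine ⟨⟨_, k, rfl⟩, ?_⟩
    replace hk : φ (x j) ^ k * φ a = 0 := hk
    rw [← map_pow, ← map_mul] at hk
    show GradedAlg.qhom J (x j) ^ k * GradedAlg.qhom J a = 0
    rw [← map_pow, ← map_mul, GradedAlg.qhom_apply, Ideal.Quotient.eq_zero_iff_mem]
    exact (hJ _ _ (hmem k)).1 hk
  · rintro ⟨⟨_, k, rfl⟩, hk⟩
    refine ⟨⟨_, k, rfl⟩, ?_⟩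
    replace hk : GradedAlg.qhom J (x j) ^ k * GradedAlg.qhom J a = 0 := hk
    rw [← map_pow, ← map_mul, GradedAlg.qhom_apply, Ideal.Quotient.eq_zero_iff_mem] at hk
    show φ (x j) ^ k * φ a = 0
    rw [← map_pow, ← map_mul]
    exact (hJ _ _ (hmem k)).2 hk

include hx hcov in
/-- A closed subscheme is `Proj` of the quotient by the forms vanishing on it. -/
theorem exists_iso [Finite ι] {Z : Scheme.{u}} (i : Z ⟶ Proj 𝒜) [IsClosedImmersion i]
    (φ : 𝒜 →+*ᵍ ℬ) (hφ : ℬ₊ ≤ 𝒜₊.map φ) (hφs : Function.Surjective φ)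
    (hker : ∀ (d : ℕ) (F : A) (hF : F ∈ 𝒜 d),
      φ F = 0 ↔ ProjUP.pullSec i (Twist.twist 𝒜 (d : ℤ)) (gsec 𝒜 F hF) = 0) :
    ∃ e : Z ≅ Proj ℬ, e.hom ≫ Proj.map φ hφ = i := by
  haveI := GradedAlg.isClosedImmersion_map φ hφ hφs
  have h := ker_map_eq x hx hcov i φ hφ hφs hker
  haveI := IsClosedImmersion.isIso_lift (Proj.map φ hφ) i h
  exact ⟨asIso (IsClosedImmersion.lift (Proj.map φ hφ) i h.le), IsClosedImmersion.lift_fac _ _ _⟩

/-- The coordinates of projective space cover it. -/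
theorem iSup_X (n : ℕ) :
    ⨆ j : ULift.{u} (Fin (n + 1)), Proj.basicOpen (CohB1.polyGrading n R) (MvPolynomial.X j.down) = ⊤ := by
  classical
  refine Proj.iSup_basicOpen_eq_top _ (fun j : ULift.{u} (Fin (n + 1)) => MvPolynomial.X j.down) fun a ha => ?_
  have h0 : MvPolynomial.homogeneousComponent 0 a = 0 := by
    have := (HomogeneousIdeal.mem_irrelevant_iff _ a).1 ha
    rw [GradedRing.proj_apply] at this
    exact ((MvPolynomial.decomposition.decompose'_apply a 0).symm).trans this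
  rw [MvPolynomial.homogeneousComponent_zero, MvPolynomial.C_eq_zero] at h0
  have hr : (Set.range fun j : ULift.{u} (Fin (n + 1)) => (MvPolynomial.X j.down : MvPolynomial (Fin (n + 1)) R)) =
      MvPolynomial.X '' Set.univ := by
    ext y
    simp only [Set.mem_range, Set.image_univ]
    exact ⟨fun ⟨j, hj⟩ => ⟨_, hj⟩, fun ⟨j, hj⟩ => ⟨⟨j⟩, hj⟩⟩
  rw [hr, MvPolynomial.mem_ideal_span_X_image]
  intro m hm
  by_contra hc
  push Not at hc
  have : m = 0 := Finsupp.ext fun j => hc j (Set.mem_univ j)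
  rw [this, MvPolynomial.mem_support_iff] at hm
  exact hm h0

end GrothLib.SatProj10
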